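import Cfsg.Agent.H941.SY.Zc

/-!
# S3846: the rows `E₆(q)`, `²E₆(q)` and the supply of elements for `G₂(q)`, `F₄(q)` (helper941)
-/

set_option autoImplicit false
set_option linter.unusedSectionVars false

namespace Cfsg.Agent.H941.SY

open Cfsg Cfsg.Lie Cfsg.Lie.ChevalleyDatum Cfsg.Agent.H301.SY

/-- a prime divisor different from `c` -/
theorem exists_prime_ne {N c : ℕ} (hc : c.Prime) (h2 : ¬ c ^ 2 ∣ N) (hN : c < N) : ∃ w, w.Prime ∧ w ∣ N ∧ w ≠ c := by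
  obtain ⟨k, m, hm, rfl⟩ := Nat.exists_eq_pow_mul_and_not_dvd (n := N) (by omega) c hc.ne_one
  have hk : k ≤ 1 := by
    by_contra hk
    exact h2 ((pow_dvd_pow c (by omega)).mul_right _)
  have hm1 : m ≠ 1 := by
    rintro rfl
    rw [mul_one] at hN
    have : c ^ k ≤ c ^ 1 := Nat.pow_le_pow_right hc.pos hk
    rw [pow_one] at this
    omega
  refine ⟨m.minFac, Nat.minFac_prime hm1, (Nat.minFac_dvd m).mul_left _, ?_⟩
  intro h
  exact hm (h ▸ Nat.minFac_dvd m)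

theorem not_dvd_one {w : ℕ} (hw : w.Prime) : ¬ w ∣ 1 := fun h => hw.one_lt.ne' (Nat.dvd_one.1 h)

section Zmod

open Cfsg.Agent.H129.RealT

variable {q : ℕ}

theorem exists_12 (hq2 : 2 ≤ q) : ∃ N w : ℕ, (N : ℤ) = 1 - (q : ℤ) ^ 2 + (q : ℤ) ^ 4 ∧ w.Prime ∧ w ∣ N := by
  have hle : q ^ 2 ≤ q ^ 4 := Nat.pow_le_pow_right (by omega) (by norm_num)
  have h3 : q ^ 2 < q ^ 4 := Nat.pow_lt_pow_right (by omega) (by norm_num)
  refine ⟨q ^ 4 - q ^ 2 + 1, (q ^ 4 - q ^ 2 + 1).minFac, ?_, Nat.minFac_prime (by omega), Nat.minFac_dvd _⟩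
  push_cast [Nat.cast_sub hle]
  ring

theorem exists_8 (hq2 : 2 ≤ q) : ∃ N w : ℕ, (N : ℤ) = 1 + (q : ℤ) ^ 4 ∧ w.Prime ∧ w ∣ N ∧ w ≠ 2 := by
  have hN : ((1 + q ^ 4 : ℕ) : ℤ) = 1 + (q : ℤ) ^ 4 := by push_cast; ring
  have h16 : 2 ^ 4 ≤ q ^ 4 := Nat.pow_le_pow_left hq2 4
  obtain ⟨w, h1, h2, h3⟩ := exists_prime_ne (N := 1 + q ^ 4) Nat.prime_two (by
    intro h
    have := zmod_of_dvd hN h
    push_cast at this
    generalize (q : ZMod 4) = x at this; revert this; revert x; decide) (by omega)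
  exact ⟨1 + q ^ 4, w, hN, h1, h2, h3⟩

theorem exists_9 (hq2 : 2 ≤ q) : ∃ N w : ℕ, (N : ℤ) = 1 + (q : ℤ) ^ 3 + (q : ℤ) ^ 6 ∧ w.Prime ∧ w ∣ N ∧ w ≠ 3 := by
  have hN : ((1 + q ^ 3 + q ^ 6 : ℕ) : ℤ) = 1 + (q : ℤ) ^ 3 + (q : ℤ) ^ 6 := by push_cast; ring
  have h16 : 2 ^ 3 ≤ q ^ 3 := Nat.pow_le_pow_left hq2 3
  obtain ⟨w, h1, h2, h3⟩ := exists_prime_ne (N := 1 + q ^ 3 + q ^ 6) Nat.prime_three
    (by norm_num; exact (Cfsg.Agent.H129.CycT.primes_9 hN).1) (by omega)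
  exact ⟨_, w, hN, h1, h2, h3⟩

theorem exists_18 (hq2 : 2 ≤ q) : ∃ N w : ℕ, (N : ℤ) = 1 - (q : ℤ) ^ 3 + (q : ℤ) ^ 6 ∧ w.Prime ∧ w ∣ N ∧ w ≠ 3 := by
  have hle : q ^ 3 ≤ q ^ 6 := Nat.pow_le_pow_right (by omega) (by norm_num)
  have hN : ((q ^ 6 - q ^ 3 + 1 : ℕ) : ℤ) = 1 - (q : ℤ) ^ 3 + (q : ℤ) ^ 6 := by
    push_cast [Nat.cast_sub hle]; ring
  have h16 : 2 ^ 3 ≤ q ^ 3 := Nat.pow_le_pow_left hq2 3
  have h17 : q ^ 6 = q ^ 3 * q ^ 3 := by ring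
  obtain ⟨w, h1, h2, h3⟩ := exists_prime_ne (N := q ^ 6 - q ^ 3 + 1) Nat.prime_three
    (by norm_num; exact (Cfsg.Agent.H129.CycT.primes_18 hN).1) (by
      have : 3 + q ^ 3 ≤ q ^ 6 := by rw [h17]; nlinarith
      omega)
  exact ⟨_, w, hN, h1, h2, h3⟩

/-- `Φ₃`: a prime divisor at least 7 -/
theorem exists_3 (hq2 : 2 ≤ q) : ∃ N w : ℕ, (N : ℤ) = 1 + (q : ℤ) + (q : ℤ) ^ 2 ∧ w.Prime ∧ w ∣ N ∧ 7 ≤ w := by
  have hN : ((1 + q + q ^ 2 : ℕ) : ℤ) = 1 + (q : ℤ) + (q : ℤ) ^ 2 := by push_cast; ring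
  have hz : ∀ n : ℕ, n ∣ 1 + q + q ^ 2 → (1 + (q : ZMod n) + (q : ZMod n) ^ 2 = 0) := by
    intro n h
    have := zmod_of_dvd hN h
    push_cast at this
    exact this
  obtain ⟨w, h1, h2, h3⟩ := exists_prime_ne (N := 1 + q + q ^ 2) Nat.prime_three (by
    intro h
    have := hz _ h
    generalize (q : ZMod 9) = x at this; revert this; revert x; decide) (by nlinarith)
  refine ⟨_, w, hN, h1, h2, ?_⟩
  have h4 := hz w h2
  by_contra h5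
  have h6 : w < 7 := by omega
  interval_cases w
  · exact absurd h1 (by norm_num)
  · exact absurd h1 (by norm_num)
  · generalize (q : ZMod 2) = x at h4; revert h4; revert x; decide
  · exact h3 rfl
  · exact absurd h1 (by norm_num)
  · generalize (q : ZMod 5) = x at h4; revert h4; revert x; decide
  · exact absurd h1 (by norm_num)

/-- `Φ₆`: a prime divisor at least 7 -/
theorem exists_6 (hq3 : 3 ≤ q) : ∃ N w : ℕ, (N : ℤ) = 1 - (q : ℤ) + (q : ℤ) ^ 2 ∧ w.Prime ∧ w ∣ N ∧ 7 ≤ w := by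
  have hle : q ≤ q ^ 2 := by nlinarith
  have hN : ((q ^ 2 - q + 1 : ℕ) : ℤ) = 1 - (q : ℤ) + (q : ℤ) ^ 2 := by
    push_cast [Nat.cast_sub hle]; ring
  have hz : ∀ n : ℕ, n ∣ q ^ 2 - q + 1 → (1 - (q : ZMod n) + (q : ZMod n) ^ 2 = 0) := by
    intro n h
    have := zmod_of_dvd hN h
    push_cast at this
    exact this
  obtain ⟨w, h1, h2, h3⟩ := exists_prime_ne (N := q ^ 2 - q + 1) Nat.prime_three (by
    intro h
    have := hz _ h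
    generalize (q : ZMod 9) = x at this; revert this; revert x; decide) (by
      have : 3 + q ≤ q ^ 2 := by nlinarith
      omega)
  refine ⟨_, w, hN, h1, h2, ?_⟩
  have h4 := hz w h2
  by_contra h5
  have h6 : w < 7 := by omega
  interval_cases w
  · exact absurd h1 (by norm_num)
  · exact absurd h1 (by norm_num)
  · generalize (q : ZMod 2) = x at h4; revert h4; revert x; decide
  · exact h3 rfl
  · exact absurd h1 (by norm_num)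
  · generalize (q : ZMod 5) = x at h4; revert h4; revert x; decide
  · exact absurd h1 (by norm_num)

end Zmod

section Rows

variable {F : Type*} [Field F] [Fintype F] {r p : ℕ} [hr : Fact r.Prime] [hp : Fact p.Prime] [CharP F r]

theorem two_le_card (F : Type*) [Field F] [Fintype F] : 2 ≤ Fintype.card F := Fintype.one_lt_card

theorem zc_E6 : Zc r p ↥(chevE6.group F) := by
  obtain ⟨N9, w9, hN9, h9, hd9, hne9⟩ := exists_9 (two_le_card F)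
  obtain ⟨N12, w12, hN12, h12, hd12⟩ := exists_12 (two_le_card F)
  obtain ⟨N8, w8, hN8, h8, hd8, hne8⟩ := exists_8 (two_le_card F)
  set q := Fintype.card F with hq
  refine Zc.of_three hp.out h9 h12 h8 ?_ ?_ ?_ (ze_E6_9 rfl hN9 h9 hd9 hne9) (ze_E6_12 rfl hN12 h12 hd12)
    (ze_E6_8 rfl hN8 h8 hd8 hne8)
  · exact ne_of_bez (u := -(q : ℤ) ^ 3) (v := 1 + (q : ℤ) ^ 2 + (q : ℤ) ^ 3 + (q : ℤ) ^ 5) (c := 1) hd9 hd12
      (by rw [hN9, hN12]; push_cast; ring) (not_dvd_one h9)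
  · exact ne_of_bez (u := 1 + (q : ℤ) + (q : ℤ) ^ 2) (v := -(q : ℤ) - (q : ℤ) ^ 2 - (q : ℤ) ^ 3 - (q : ℤ) ^ 4) (c := 1)
      hd9 hd8 (by rw [hN9, hN8]; push_cast; ring) (not_dvd_one h9)
  · exact ne_of_bez (u := (q : ℤ) ^ 2) (v := 1 - (q : ℤ) ^ 2) (c := 1) hd12 hd8
      (by rw [hN12, hN8]; push_cast; ring) (not_dvd_one h12)

theorem zc_tE6 {q : ℕ} (hq : IsPrimePow q) (hF : Fintype.card F = q ^ 2) : Zc r p ↥(twistedE6 F q) := by
  obtain ⟨N9, w9, hN9, h9, hd9, hne9⟩ := exists_18 hq.two_le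
  obtain ⟨N12, w12, hN12, h12, hd12⟩ := exists_12 hq.two_le
  obtain ⟨N8, w8, hN8, h8, hd8, hne8⟩ := exists_8 hq.two_le
  refine Zc.of_three hp.out h9 h12 h8 ?_ ?_ ?_ (ze_tE6_18 hq hF hN9 h9 hd9 hne9) (ze_tE6_12 hq hF hN12 h12 hd12)
    (ze_tE6_8 hq hF hN8 h8 hd8 hne8)
  · exact ne_of_bez (u := (q : ℤ) ^ 3) (v := 1 + (q : ℤ) ^ 2 - (q : ℤ) ^ 3 - (q : ℤ) ^ 5) (c := 1) hd9 hd12
      (by rw [hN9, hN12]; push_cast; ring) (not_dvd_one h9)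
  · exact ne_of_bez (u := 1 - (q : ℤ) + (q : ℤ) ^ 2) (v := (q : ℤ) - (q : ℤ) ^ 2 + (q : ℤ) ^ 3 - (q : ℤ) ^ 4) (c := 1)
      hd9 hd8 (by rw [hN9, hN8]; push_cast; ring) (not_dvd_one h9)
  · exact ne_of_bez (u := (q : ℤ) ^ 2) (v := 1 - (q : ℤ) ^ 2) (c := 1) hd12 hd8
      (by rw [hN12, hN8]; push_cast; ring) (not_dvd_one h12)

end Rows

/-- **the row `E₆(q)`** -/
theorem crow_e6 {K : Type*} [Group K] [Finite K] [IsSimpleGroup K] {F : Type} [Field F] [Fintype F] {r p : ℕ}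
    [Fact r.Prime] [Fact p.Prime] [CharP F r] (e : Nonempty (K ≃* Cfsg.Lie.chevE6.group F)) (_hp : 5 ≤ p)
    (_hpr : p ≠ r) : Cfsg.Agent.H301.SY.CRow r p K := by
  obtain ⟨e⟩ := e
  exact CRow.congr e fun _ _ _ _ => Or.inr (Or.inr zc_E6)

/-- **the row `²E₆(q)`** -/
theorem crow_tE6 {K : Type*} [Group K] [Finite K] [IsSimpleGroup K] {F : Type} [Field F] [Fintype F] {q r p : ℕ}
    [Fact r.Prime] [Fact p.Prime] [CharP F r] (hF : Fintype.card F = q ^ 2)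
    (e : Nonempty (K ≃* Cfsg.Lie.twistedE6 F q)) (_hp : 5 ≤ p) (_hpr : p ≠ r) : Cfsg.Agent.H301.SY.CRow r p K := by
  obtain ⟨e⟩ := e
  have hq : IsPrimePow q := by
    rw [← isPrimePow_pow_iff (k := 2) (by norm_num), ← hF]
    exact FiniteField.isPrimePow_card F
  exact CRow.congr e fun _ _ _ _ => Or.inr (Or.inr (zc_tE6 hq hF))

end Cfsg.Agent.H941.SY
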