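import Cfsg.Agent.H941.SY.Rows
import Cfsg.Agent.H301.SY.Tools

/-!
# S3846: the rows `G₂(q)` and `F₄(q)` (helper941)

For `p > d + 1`, `d` the degree of the adjoint representation, the Hall-Higman type lemma gives `M0`; the small `p`
have the elements of `Zc`.
-/

set_option autoImplicit false
set_option linter.unusedSectionVars false

namespace Cfsg.Agent.H941.SY

open Cfsg Cfsg.Lie Cfsg.Lie.ChevalleyDatum Cfsg.Agent.H301.SY Cfsg.Agent.H459.Rad Cfsg.Agent.H459.Iface

/-- a faithful representation of degree `< p - 1` in characteristic `r` -/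
theorem m0_of_repr (hh : HH) {L : Type} [Group L] [Finite L] {r p : ℕ} [hr : Fact r.Prime] [hp : Fact p.Prime]
    (hpr : p ≠ r) {k V : Type} [Field k] [CharP k r] [AddCommGroup V] [Module k V] [FiniteDimensional k V]
    (ρ : Representation k L V) (hρ : Function.Injective ρ) (hd : Module.finrank k V + 1 < p) {x : L}
    (hx : orderOf x = p) (hP : ∀ P : Sylow p L, IsCyclic (P : Subgroup L)) (hF : ¬ FixR r (MulAut.conj x)) : M0 x := by
  refine M0.of_triv hP hx fun t ht htp R hR hxR => ?_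
  have hne : ∀ s : ℕ, s.Prime → s ≠ r → (s : k) ≠ 0 := by
    intro s hs hsr h
    rw [CharP.cast_eq_zero_iff k r] at h
    exact hsr ((Nat.prime_dvd_prime_iff_eq hr.out hs).1 h).symm
  by_cases htr : t = r
  · subst htr
    by_cases hR0 : R = ⊥
    · subst hR0
      intro a ha
      rw [Subgroup.mem_bot.1 ha, mul_one, one_mul]
    · exact absurd ⟨R, hR0, hR, fun a ha => hxR a ha⟩ hF
  · exact hh k V L ρ hρ p t hp.out ht (Ne.symm htp) (hne p hp.out hpr) (hne t ht htr) hd R hR x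
      ⟨1, by rw [pow_one]; exact hx⟩ hxR

/-- the natural (adjoint) representation of a Chevalley group -/
def natRep (D : ChevalleyDatum) (F : Type*) [Field F] : Representation F ↥(D.group F) (D.Idx → F) :=
  ((Matrix.toLinAlgEquiv' : Matrix D.Idx D.Idx F ≃ₐ[F] _).toRingEquiv.toMonoidHom.comp
    (Units.coeHom (Matrix D.Idx D.Idx F))).comp (D.group F).subtype

theorem natRep_injective (D : ChevalleyDatum) (F : Type*) [Field F] : Function.Injective (natRep D F) := by
  intro a b h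
  apply Subtype.ext
  apply Units.ext
  exact (Matrix.toLinAlgEquiv' : Matrix D.Idx D.Idx F ≃ₐ[F] _).injective h

theorem crow_of_zc (hh : HH) {D : ChevalleyDatum} {F : Type} [Field F] [Fintype F] {r p : ℕ} [hr : Fact r.Prime]
    [hp : Fact p.Prime] [CharP F r] (hpr : p ≠ r) (h : p ≤ D.rank + D.nroots + 1 → Zc r p ↥(D.group F)) :
    CRow r p ↥(D.group F) := by
  intro x hx hR hP
  by_cases hle : p ≤ D.rank + D.nroots + 1
  · exact Or.inr (Or.inr (h hle))
  by_cases hF : FixR r (MulAut.conj x)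
  · exact Or.inl hF
  refine Or.inr (Or.inl (m0_of_repr hh hpr (natRep D F) (natRep_injective D F) ?_ hx hP hF))
  rw [Module.finrank_fintype_fun_eq_card, Fintype.card_sum, Fintype.card_fin, Fintype.card_fin]
  omega

theorem small_g2 : ∀ p ∈ Finset.range 16, 5 ≤ p → Nat.Prime p → ∀ s ∈ Finset.range 16, Nat.Prime s → s ∣ p - 1 →
    s ≤ 5 := by decide +kernel

theorem small_f4 : ∀ p ∈ Finset.range 54, Nat.Prime p → ∀ s ∈ Finset.range 54, Nat.Prime s → s ∣ p - 1 →
    ¬ (p % 8 = 1 ∧ s % 12 = 1) ∧ ¬ (p % 12 = 1 ∧ s % 8 = 1) := by decide +kernel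

theorem mod_8 {q w N : ℕ} (hN : (N : ℤ) = 1 + (q : ℤ) ^ 4) (hw : w.Prime) (hwN : w ∣ N) (hw2 : w ≠ 2) : w % 8 = 1 := by
  have hwF : Fact w.Prime := ⟨hw⟩
  have hz : (1 + (q : ZMod w) ^ 4 = 0) := by
    have := Cfsg.Agent.H129.RealT.zmod_of_dvd hN hwN
    push_cast at this
    exact this
  have h4 : (q : ZMod w) ^ 4 = -1 := by linear_combination hz
  have h2 : (2 : ZMod w) ≠ 0 := by
    intro h
    have : ((2 : ℕ) : ZMod w) = 0 := by exact_mod_cast h
    rw [ZMod.natCast_eq_zero_iff] at this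
    exact hw2 ((Nat.prime_dvd_prime_iff_eq hw Nat.prime_two).1 this)
  have ho : orderOf (q : ZMod w) = 2 ^ (2 + 1) := by
    apply orderOf_eq_prime_pow
    · intro h
      apply h2
      have h' : (q : ZMod w) ^ 4 = 1 := by simpa using h
      rw [h4] at h'
      linear_combination -h'
    · calc (q : ZMod w) ^ 2 ^ (2 + 1) = ((q : ZMod w) ^ 4) ^ 2 := by norm_num; ring
        _ = 1 := by rw [h4]; ring
  have hq0 : (q : ZMod w) ≠ 0 := by
    intro h
    rw [h] at hz
    norm_num at hz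
  have h5 := ZMod.orderOf_dvd_card_sub_one hq0
  rw [ho] at h5
  have := hw.two_le
  omega

theorem mod_12 {q w N : ℕ} (hN : (N : ℤ) = 1 - (q : ℤ) ^ 2 + (q : ℤ) ^ 4) (hw : w.Prime) (hwN : w ∣ N) :
    w % 12 = 1 := by
  have hwF : Fact w.Prime := ⟨hw⟩
  obtain ⟨hw2, hw3, -⟩ := primes_12' hN hwN
  have hz : (1 - (q : ZMod w) ^ 2 + (q : ZMod w) ^ 4 = 0) := by
    have := Cfsg.Agent.H129.RealT.zmod_of_dvd hN hwN
    push_cast at this
    exact this
  have h2 : (2 : ZMod w) ≠ 0 := by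
    intro h
    have : ((2 : ℕ) : ZMod w) = 0 := by exact_mod_cast h
    rw [ZMod.natCast_eq_zero_iff] at this
    exact hw2 ((Nat.prime_dvd_prime_iff_eq hw Nat.prime_two).1 this)
  have h3 : (3 : ZMod w) ≠ 0 := by
    intro h
    have : ((3 : ℕ) : ZMod w) = 0 := by exact_mod_cast h
    rw [ZMod.natCast_eq_zero_iff] at this
    exact hw3 ((Nat.prime_dvd_prime_iff_eq hw Nat.prime_three).1 this)
  have h6 : (q : ZMod w) ^ 6 = -1 := by linear_combination ((q : ZMod w) ^ 2 + 1) * hz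
  have ho : orderOf (q : ZMod w) = 12 := by
    apply orderOf_eq_of_pow_and_pow_div_prime (by norm_num)
    · calc (q : ZMod w) ^ 12 = ((q : ZMod w) ^ 6) ^ 2 := by ring
        _ = 1 := by rw [h6]; ring
    · intro l hl hl12
      have hl' : l = 2 ∨ l = 3 := by
        have : l ∣ 2 ^ 2 * 3 := hl12
        rcases (Nat.Prime.dvd_mul hl).1 this with h | h
        · left; exact (Nat.prime_dvd_prime_iff_eq hl Nat.prime_two).1 (hl.dvd_of_dvd_pow h)
        · right; exact (Nat.prime_dvd_prime_iff_eq hl Nat.prime_three).1 h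
      rcases hl' with rfl | rfl
      · intro h
        apply h2
        have h' : (q : ZMod w) ^ 6 = 1 := by simpa using h
        rw [h6] at h'
        linear_combination -h'
      · intro h
        apply h3
        have h' : (q : ZMod w) ^ 4 = 1 := by simpa using h
        have h2' : (q : ZMod w) ^ 2 = 2 := by linear_combination -hz + h'
        have : ((q : ZMod w) ^ 2) ^ 2 = 1 := by rw [← h']; ring
        rw [h2'] at this
        linear_combination this
  have hq0 : (q : ZMod w) ≠ 0 := by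
    intro h
    rw [h] at hz
    norm_num at hz
  have h5 := ZMod.orderOf_dvd_card_sub_one hq0
  rw [ho] at h5
  have := hw.two_le
  omega

/-- **the row `G₂(q)`** -/
theorem crow_g2 (hh : Cfsg.Agent.H301.SY.HH) {K : Type*} [Group K] [Finite K] [IsSimpleGroup K] {F : Type} [Field F]
    [Fintype F] {r p : ℕ} [Fact r.Prime] [hp5 : Fact p.Prime] [CharP F r] (hF : 3 ≤ Fintype.card F)
    (e : Nonempty (K ≃* Cfsg.Lie.chevG2.group F)) (hp : 5 ≤ p) (hpr : p ≠ r) : Cfsg.Agent.H301.SY.CRow r p K := by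
  obtain ⟨e⟩ := e
  refine CRow.congr e (crow_of_zc hh hpr fun hle => ?_)
  have hle' : p ≤ 15 := hle
  obtain ⟨N3, w3, hN3, h3, hd3, h37⟩ := exists_3 (two_le_card F)
  obtain ⟨N6, w6, hN6, h6, hd6, h67⟩ := exists_6 hF
  set q := Fintype.card F with hq
  have hne : w3 ≠ w6 := by
    refine ne_of_bez (u := 1 - (q : ℤ)) (v := 1 + (q : ℤ)) (c := 2) hd3 hd6 (by rw [hN3, hN6]; push_cast; ring) ?_
    intro h
    have := Nat.le_of_dvd (by norm_num) h
    omega
  refine Zc.of_two hp5.out h3 h6 ?_ (ze_G2_3 rfl hN3 h3 hd3 (by omega)) (ze_G2_6 rfl hN6 h6 hd6 (by omega))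
  intro s hs hsp
  have hs5 : s ≤ 5 := small_g2 p (Finset.mem_range.2 (by omega)) hp hp5.out s (Finset.mem_range.2 (by
    have := Nat.le_of_dvd (by have := hp5.out.two_le; omega) hsp
    omega)) hs hsp
  by_cases h7 : w3 = p
  · right
    exact ⟨fun h8 => hne (h7.trans h8.symm), by omega⟩
  · left
    exact ⟨h7, by omega⟩

/-- **the row `F₄(q)`** -/
theorem crow_f4 (hh : Cfsg.Agent.H301.SY.HH) {K : Type*} [Group K] [Finite K] [IsSimpleGroup K] {F : Type} [Field F]
    [Fintype F] {r p : ℕ} [Fact r.Prime] [hp5 : Fact p.Prime] [CharP F r]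
    (e : Nonempty (K ≃* Cfsg.Lie.chevF4.group F)) (_hp : 5 ≤ p) (hpr : p ≠ r) : Cfsg.Agent.H301.SY.CRow r p K := by
  obtain ⟨e⟩ := e
  refine CRow.congr e (crow_of_zc hh hpr fun hle => ?_)
  have hle' : p ≤ 53 := hle
  obtain ⟨N12, w12, hN12, h12, hd12⟩ := exists_12 (two_le_card F)
  obtain ⟨N8, w8, hN8, h8, hd8, hne8⟩ := exists_8 (two_le_card F)
  have m8 := mod_8 hN8 h8 hd8 hne8
  have m12 := mod_12 hN12 h12 hd12
  set q := Fintype.card F with hq
  have hne : w12 ≠ w8 := by
    exact ne_of_bez (u := (q : ℤ) ^ 2) (v := 1 - (q : ℤ) ^ 2) (c := 1) hd12 hd8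
      (by rw [hN12, hN8]; push_cast; ring) (not_dvd_one h12)
  refine Zc.of_two hp5.out h12 h8 ?_ (ze_F4_12 rfl hN12 h12 hd12) (ze_F4_8 rfl hN8 h8 hd8 hne8)
  intro s hs hsp
  have hs54 : s < 54 := by
    have := Nat.le_of_dvd (by have := hp5.out.two_le; omega) hsp
    omega
  obtain ⟨ha, hb⟩ := small_f4 p (Finset.mem_range.2 (by omega)) hp5.out s (Finset.mem_range.2 hs54) hs hsp
  by_contra hcon
  push Not at hcon
  obtain ⟨h1, h2⟩ := hcon
  by_cases h3 : w12 = p
  · have h4 : w8 = s := h2 fun h => hne (h3.trans h.symm)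
    apply hb
    rw [← h3, ← h4]
    exact ⟨m12, m8⟩
  · have h4 : w12 = s := h1 h3
    have h5 : w8 = p := by
      by_contra h
      exact hne (h4.trans (h2 h).symm)
    apply ha
    rw [← h5, ← h4]
    exact ⟨m8, m12⟩

end Cfsg.Agent.H941.SY
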