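import Cfsg.Agent.H129.CycT2
import Cfsg.Agent.H129.DataE6
import Cfsg.Agent.H941.SY.DataE6e
import Cfsg.Agent.H301.SY.Base

/-!
# S3846: elements with centralizer of order prime to the characteristic, exceptional groups (helper941)
-/

set_option autoImplicit false
set_option linter.unusedSectionVars false

namespace Cfsg.Agent.H941.SY

open CoxeterSystem Cfsg Cfsg.Lie Cfsg.Lie.ChevalleyDatum
open Cfsg.Agent.ChevalleyStructure Cfsg.Agent.ChevalleyStructure.Elts Cfsg.Agent.ChevalleyStructure.CoxeterGeom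
  Cfsg.Agent.ChevalleyStructure.CoxeterGeomTypes Cfsg.Agent.ChevalleyStructure.NPerm
open Cfsg.Agent.Tits.Roots Cfsg.Agent.Tits.Core Cfsg.Agent.Nodes Cfsg.Agent.Nodes.Reps Cfsg.Agent.Nodes.BNOf
  Cfsg.Agent.Nodes.RGDChev Cfsg.Agent.Nodes.Bruhat Cfsg.Agent.Nodes.SubComb Cfsg.Agent.Nodes.Coroot
open Cfsg.Agent.H129 Cfsg.Agent.H129.TorusChar Cfsg.Agent.H129.TorusTw Cfsg.Agent.H129.WData Cfsg.Agent.H129.TorAct
  Cfsg.Agent.H129.RealT Cfsg.Agent.H129.CycT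
open Cfsg.Agent.H301.SY

/-- an element of order `w` whose centralizer has order prime to `r` -/
def ZE (G : Type*) [Group G] (r w : ℕ) : Prop :=
  ∃ z : G, orderOf z = w ∧ ¬ r ∣ Nat.card (Subgroup.centralizer ({z} : Set G))

section Abs

variable {G : Type*} [Group G]

theorem ZE.of [Finite G] {T : Subgroup G} {N w r q d : ℕ} (hT : Nat.card T ∣ N) (hN : N ∣ d * Nat.card T)
    (hw : w.Prime) (hwN : w ∣ N) (hwd : ¬ w ∣ d) (hr : r.Prime) (hrq : r ∣ q) (hqN : q.Coprime N)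
    (hc : ∀ y ∈ T, orderOf y = w → Subgroup.centralizer {y} ≤ T) : ZE G r w := by
  have hwT : w ∣ Nat.card T := by
    rcases (hw.dvd_mul).1 (hwN.trans hN) with h | h
    · exact absurd h hwd
    · exact h
  have := Fact.mk hw
  obtain ⟨y, hy⟩ := exists_prime_orderOf_dvd_card' w hwT
  have hy' : orderOf (y : G) = w := by rw [Subgroup.orderOf_coe]; exact hy
  refine ⟨y, hy', fun h => ?_⟩
  have h1 : r ∣ N := (h.trans (Subgroup.card_dvd_of_le (hc y y.2 hy'))).trans hT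
  exact hr.one_lt.ne' (Nat.dvd_one.1 (hqN ▸ Nat.dvd_gcd hrq h1))

theorem Zc.of {r p : ℕ} (hp : p.Prime) (h : ∀ s : ℕ, s.Prime → s ∣ p - 1 → s ≠ r →
    ∃ w : ℕ, w.Prime ∧ w ≠ p ∧ w ≠ s ∧ ZE G r w) : Zc r p G := by
  intro s hs hsp hsr
  obtain ⟨w, hw, h1, h2, z, hz, h3⟩ := h s hs hsp hsr
  refine ⟨z, ?_, h3, ?_⟩
  · rintro rfl
    rw [orderOf_one] at hz
    exact hw.one_lt.ne hz
  · rw [hz]
    exact Nat.Coprime.mul_right ((Nat.coprime_primes hw hp).2 h1) ((Nat.coprime_primes hw hs).2 h2)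

theorem Zc.of_three {r p : ℕ} (hp : p.Prime) {w₁ w₂ w₃ : ℕ} (hw₁ : w₁.Prime) (hw₂ : w₂.Prime) (hw₃ : w₃.Prime)
    (h12 : w₁ ≠ w₂) (h13 : w₁ ≠ w₃) (h23 : w₂ ≠ w₃) (h1 : ZE G r w₁) (h2 : ZE G r w₂) (h3 : ZE G r w₃) :
    Zc r p G := by
  refine Zc.of hp fun s hs hsp hsr => ?_
  by_cases ha : w₁ ≠ p ∧ w₁ ≠ s
  · exact ⟨w₁, hw₁, ha.1, ha.2, h1⟩
  by_cases hb : w₂ ≠ p ∧ w₂ ≠ s
  · exact ⟨w₂, hw₂, hb.1, hb.2, h2⟩
  refine ⟨w₃, hw₃, ?_, ?_, h3⟩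
  · rintro rfl
    have e1 : w₁ = s := by by_contra h; exact ha ⟨h13, h⟩
    have e2 : w₂ = s := by by_contra h; exact hb ⟨h23, h⟩
    exact h12 (e1.trans e2.symm)
  · rintro rfl
    have e1 : w₁ = p := by by_contra h; exact ha ⟨h, h13⟩
    have e2 : w₂ = p := by by_contra h; exact hb ⟨h, h23⟩
    exact h12 (e1.trans e2.symm)

theorem Zc.of_two {r p : ℕ} (hp : p.Prime) {w₁ w₂ : ℕ} (hw₁ : w₁.Prime) (hw₂ : w₂.Prime)
    (h : ∀ s : ℕ, s.Prime → s ∣ p - 1 → (w₁ ≠ p ∧ w₁ ≠ s) ∨ (w₂ ≠ p ∧ w₂ ≠ s)) (h1 : ZE G r w₁) (h2 : ZE G r w₂) :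
    Zc r p G := by
  refine Zc.of hp fun s hs hsp _ => ?_
  rcases h s hs hsp with ha | ha
  · exact ⟨w₁, hw₁, ha.1, ha.2, h1⟩
  · exact ⟨w₂, hw₂, ha.1, ha.2, h2⟩

end Abs

/-! ### arithmetic -/

section Arith

variable {F : Type*} [Field F] [Fintype F] {r : ℕ} [CharP F r]

theorem dvd_card (F : Type*) [Field F] [Fintype F] (r : ℕ) [CharP F r] : r ∣ Fintype.card F := by
  rw [← CharP.cast_eq_zero_iff F r]
  exact Nat.cast_card_eq_zero F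

/-- a common prime divisor of two numbers with a Bézout relation -/
theorem ne_of_bez {w w' a b : ℕ} {u v : ℤ} (ha : w ∣ a) (hb : w' ∣ b) {c : ℕ}
    (h : u * a + v * b = c) (hc : ¬ w ∣ c) : w ≠ w' := by
  rintro rfl
  apply hc
  have h1 : (w : ℤ) ∣ c := by
    rw [← h]
    exact dvd_add (Dvd.dvd.mul_left (Int.natCast_dvd_natCast.2 ha) u) (Dvd.dvd.mul_left (Int.natCast_dvd_natCast.2 hb) v)
  exact Int.natCast_dvd_natCast.1 h1

end Arith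

/-! ### the general rows -/

universe u

section Gen

variable {D : ChevalleyDatum} {l : ℕ} {M : CoxeterMatrix (Fin l)} (hp : IsType D l M)
  {W : Type*} [Group W] (cs : CoxeterSystem M W)

include hp cs in
theorem ze_untw [Finite W] (hl : 0 < l) {F : Type u} [Field F] [Fintype F] {r : ℕ} [hr : Fact r.Prime] [CharP F r]
    {q : ℕ} (hq : Fintype.card F = q)
    {d' : ℕ} {B' : Fin l → Fin l → ℤ} (hB : InvC D l d' B') (hd' : d' ≠ 0)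
    {A : Mat l} (hA : ∀ i j, A i j = cartanOf D l i j) {L : List (Fin l × Mat l)} (hL : ChainOK A L)
    {V B : Mat l} {c : Fin l → ℤ} (hcyc : CycOK l (hd L) V B c) {m : ℕ} {R : Fin m → Fin l → ℤ} {prv dep : ℕ → ℕ}
    (hR : RootOK D l (hd L) R prv dep) {N : ℕ} (hfN : fN c (q : ℤ) = N) (hqN : q.Coprime N) {w : ℕ} (hw : w.Prime)
    (hwN : w ∣ N) (hwd : ¬ w ∣ d') (hwW : ¬ w ∣ Nat.card W) (hG : ∀ s, ¬ (w : ℤ) ∣ Gq B (q : ℤ) (R s)) :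
    ZE ↥(D.group F) r w := by
  obtain ⟨T, -, h2, h3, h4, -⟩ := UntwT.untw_T hp cs hl hq hB hd' hA hL hcyc hR hfN hqN (d := d') (Or.inl rfl)
  exact ZE.of h2 h3 hw hwN hwd hr.out (hq ▸ dvd_card F r) hqN (h4 w hw hwW hG)

end Gen

variable {F : Type u} [Field F] [Fintype F] {q r : ℕ} [hr : Fact r.Prime] [CharP F r]

/-! ### `G₂` -/

theorem ze_G2_3 (hq : Fintype.card F = q) {N : ℕ} (hN : (N : ℤ) = 1 + (q : ℤ) + (q : ℤ) ^ 2) {w : ℕ} (hw : w.Prime)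
    (hwN : w ∣ N) (hw3 : w ≠ 3) : ZE ↥(chevG2.group F) r w := by
  have : Finite CoxeterMatrix.G₂.Group := Nat.finite_of_card_ne_zero (by rw [cardW_G2]; norm_num)
  exact ze_untw typeG2 CoxeterMatrix.G₂.toCoxeterSystem (by norm_num) hq TorusChar.invC_G2 one_ne_zero DataG2.hA
    DataG2.chainOK DataG2.cycOK DataG2.rootOK (by rw [DataG2.fN_eq, hN])
    (UntwData.coprime_of_eq (a := 1 + (q : ℤ)) (by rw [hN]; ring)) hw hwN
    (fun h => hw.one_lt.ne' (Nat.dvd_one.1 h)) (good_G2_3 hN hw hwN hw3).1 (good_G2_3 hN hw hwN hw3).2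

theorem ze_G2_6 (hq : Fintype.card F = q) {N : ℕ} (hN : (N : ℤ) = 1 - (q : ℤ) + (q : ℤ) ^ 2) {w : ℕ} (hw : w.Prime)
    (hwN : w ∣ N) (hw3 : w ≠ 3) : ZE ↥(chevG2.group F) r w := by
  have : Finite CoxeterMatrix.G₂.Group := Nat.finite_of_card_ne_zero (by rw [cardW_G2]; norm_num)
  exact ze_untw typeG2 CoxeterMatrix.G₂.toCoxeterSystem (by norm_num) hq TorusChar.invC_G2 one_ne_zero DataG2h.hA
    DataG2h.chainOK DataG2h.cycOK DataG2h.rootOK (by rw [DataG2h.fN_eq, hN])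
    (UntwData.coprime_of_eq (a := -1 + (q : ℤ)) (by rw [hN]; ring)) hw hwN
    (fun h => hw.one_lt.ne' (Nat.dvd_one.1 h)) (good_G2_6 hN hw hwN hw3).1 (good_G2_6 hN hw hwN hw3).2

/-! ### `F₄` -/

theorem ze_F4_12 (hq : Fintype.card F = q) {N : ℕ} (hN : (N : ℤ) = 1 - (q : ℤ) ^ 2 + (q : ℤ) ^ 4) {w : ℕ}
    (hw : w.Prime) (hwN : w ∣ N) : ZE ↥(chevF4.group F) r w := by
  have : Finite CoxeterMatrix.F₄.Group := Nat.finite_of_card_ne_zero (by rw [cardW_F4]; norm_num)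
  exact ze_untw typeF4 CoxeterMatrix.F₄.toCoxeterSystem (by norm_num) hq TorusChar.invC_F4 one_ne_zero DataF4h.hA
    DataF4h.chainOK DataF4h.cycOK DataF4h.rootOK (by rw [DataF4h.fN_eq, hN])
    (UntwData.coprime_of_eq (a := -(q : ℤ) + (q : ℤ) ^ 3) (by rw [hN]; ring)) hw hwN
    (fun h => hw.one_lt.ne' (Nat.dvd_one.1 h)) (good_F4_12 hN hw hwN).1 (good_F4_12 hN hw hwN).2

theorem ze_F4_8 (hq : Fintype.card F = q) {N : ℕ} (hN : (N : ℤ) = 1 + (q : ℤ) ^ 4) {w : ℕ}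
    (hw : w.Prime) (hwN : w ∣ N) (hw2 : w ≠ 2) : ZE ↥(chevF4.group F) r w := by
  have : Finite CoxeterMatrix.F₄.Group := Nat.finite_of_card_ne_zero (by rw [cardW_F4]; norm_num)
  exact ze_untw typeF4 CoxeterMatrix.F₄.toCoxeterSystem (by norm_num) hq TorusChar.invC_F4 one_ne_zero DataF4.hA
    DataF4.chainOK DataF4.cycOK DataF4.rootOK (by rw [DataF4.fN_eq, hN])
    (UntwData.coprime_of_eq (a := (q : ℤ) ^ 3) (by rw [hN]; ring)) hw hwN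
    (fun h => hw.one_lt.ne' (Nat.dvd_one.1 h)) (good_F4_8 hN hw hwN hw2).1 (good_F4_8 hN hw hwN hw2).2

/-! ### `E₆` -/

theorem ze_E6_9 (hq : Fintype.card F = q) {N : ℕ} (hN : (N : ℤ) = 1 + (q : ℤ) ^ 3 + (q : ℤ) ^ 6) {w : ℕ}
    (hw : w.Prime) (hwN : w ∣ N) (hw3 : w ≠ 3) : ZE ↥(chevE6.group F) r w := by
  have := TwT.finite_W6
  exact ze_untw typeE6 CoxeterMatrix.E₆.toCoxeterSystem (by norm_num) hq TorusChar.invC_E6 (by norm_num) DataE6n.hA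
    DataE6n.chainOK DataE6n.cycOK DataE6n.rootOK (by rw [DataE6n.fN_eq, hN])
    (UntwData.coprime_of_eq (a := (q : ℤ) ^ 2 + (q : ℤ) ^ 5) (by rw [hN]; ring)) hw hwN
    (fun h => hw3 ((Nat.prime_dvd_prime_iff_eq hw Nat.prime_three).1 h)) (good_E6_9 hN hw hwN hw3).1
    (good_E6_9 hN hw hwN hw3).2

theorem primes_12' {N : ℕ} (hN : (N : ℤ) = 1 - (q : ℤ) ^ 2 + (q : ℤ) ^ 4) {w : ℕ} (hwN : w ∣ N) :
    w ≠ 2 ∧ w ≠ 3 ∧ w ≠ 5 := by
  have hz : (1 - (q : ZMod w) ^ 2 + (q : ZMod w) ^ 4 = 0) := by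
    have := zmod_of_dvd hN hwN
    push_cast at this
    exact this
  refine ⟨?_, ?_, ?_⟩
  · rintro rfl
    generalize (q : ZMod 2) = x at hz; revert hz; revert x; decide
  · rintro rfl
    generalize (q : ZMod 3) = x at hz; revert hz; revert x; decide
  · rintro rfl
    generalize (q : ZMod 5) = x at hz; revert hz; revert x; decide

theorem primes_8 {N : ℕ} (hN : (N : ℤ) = 1 + (q : ℤ) ^ 4) {w : ℕ} (hwN : w ∣ N) : w ≠ 3 ∧ w ≠ 5 := by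
  have hz : (1 + (q : ZMod w) ^ 4 = 0) := by
    have := zmod_of_dvd hN hwN
    push_cast at this
    exact this
  refine ⟨?_, ?_⟩
  · rintro rfl
    generalize (q : ZMod 3) = x at hz; revert hz; revert x; decide
  · rintro rfl
    generalize (q : ZMod 5) = x at hz; revert hz; revert x; decide

/-- the torus `Φ₁₂ Φ₃` -/
theorem ze_E6_12 (hq : Fintype.card F = q) {N : ℕ} (hN : (N : ℤ) = 1 - (q : ℤ) ^ 2 + (q : ℤ) ^ 4) {w : ℕ}
    (hw : w.Prime) (hwN : w ∣ N) : ZE ↥(chevE6.group F) r w := by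
  have := TwT.finite_W6
  obtain ⟨h2, h3, h5⟩ := primes_12' hN hwN
  have hM : ((N * (q ^ 2 + q + 1) : ℕ) : ℤ) = 1 + (q : ℤ) - (q : ℤ) ^ 3 + (q : ℤ) ^ 5 + (q : ℤ) ^ 6 := by
    push_cast; rw [hN]; ring
  refine ze_untw typeE6 CoxeterMatrix.E₆.toCoxeterSystem (by norm_num) hq TorusChar.invC_E6 (by norm_num) DataE6.hA
    DataE6.chainOK DataE6.cycOK DataE6.rootOK (N := N * (q ^ 2 + q + 1)) (by rw [DataE6.fN_eq, hM])
    (UntwData.coprime_of_eq (a := 1 - (q : ℤ) ^ 2 + (q : ℤ) ^ 4 + (q : ℤ) ^ 5) (by rw [hM]; ring)) hw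
    (hwN.mul_right _) (fun h => h3 ((Nat.prime_dvd_prime_iff_eq hw Nat.prime_three).1 h))
    (not_dvd_W_E6 hw h2 h3 h5) fun s hs => ?_
  rcases DataE6.dvd_of_G (cast_dvd hN hwN) s hs with h | h
  · exact not_one hw h
  · exact not_prime hw Nat.prime_two h2 h

/-- the torus `Φ₈ (q² - 1)` -/
theorem ze_E6_8 (hq : Fintype.card F = q) {N : ℕ} (hN : (N : ℤ) = 1 + (q : ℤ) ^ 4) {w : ℕ}
    (hw : w.Prime) (hwN : w ∣ N) (hw2 : w ≠ 2) : ZE ↥(chevE6.group F) r w := by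
  have := TwT.finite_W6
  obtain ⟨h3, h5⟩ := primes_8 hN hwN
  have hle : 1 ≤ q ^ 2 := Nat.one_le_pow _ _ (by rw [← hq]; exact Fintype.card_pos)
  have hM : ((N * (q ^ 2 - 1) : ℕ) : ℤ) = -1 + (q : ℤ) ^ 2 - (q : ℤ) ^ 4 + (q : ℤ) ^ 6 := by
    push_cast [Nat.cast_sub hle]; rw [hN]; ring
  refine ze_untw typeE6 CoxeterMatrix.E₆.toCoxeterSystem (by norm_num) hq TorusChar.invC_E6 (by norm_num) DataE6e.hA
    DataE6e.chainOK DataE6e.cycOK DataE6e.rootOK (N := N * (q ^ 2 - 1)) (by rw [DataE6e.fN_eq, hM])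
    (coprime_of_neg (a := (q : ℤ) - (q : ℤ) ^ 3 + (q : ℤ) ^ 5) (by rw [hM]; ring)) hw
    (hwN.mul_right _) (fun h => h3 ((Nat.prime_dvd_prime_iff_eq hw Nat.prime_three).1 h))
    (not_dvd_W_E6 hw hw2 h3 h5) fun s hs => ?_
  rcases DataE6e.dvd_of_G (cast_dvd hN hwN) s hs with h | h
  · exact not_one hw h
  · exact not_prime hw Nat.prime_two hw2 h

/-! ### `²E₆` -/

theorem dvd_of_card_sq (hK : Fintype.card F = q ^ 2) : r ∣ q :=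
  hr.out.dvd_of_dvd_pow (hK ▸ dvd_card F r)

theorem ze_tE6_18 (hq : IsPrimePow q) (hK : Fintype.card F = q ^ 2) {N : ℕ}
    (hN : (N : ℤ) = 1 - (q : ℤ) ^ 3 + (q : ℤ) ^ 6) {w : ℕ} (hw : w.Prime) (hwN : w ∣ N) (hw3 : w ≠ 3) :
    ZE ↥(twistedE6 F q) r w := by
  obtain ⟨T, -, h2, h3, h5⟩ := torus_tE6_18 hq hK hN
  have : Finite ↥(twistedE6 F q) := inferInstance
  exact ZE.of h2 h3 hw hwN (not_dvd_gcd3 hw hw3) hr.out (dvd_of_card_sq hK)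
    (UntwData.coprime_of_eq (a := -(q : ℤ) ^ 2 + (q : ℤ) ^ 5) (by rw [hN]; ring)) (h5 w hw hwN hw3)

theorem ze_tE6_12 (hq : IsPrimePow q) (hK : Fintype.card F = q ^ 2) {N : ℕ}
    (hN : (N : ℤ) = 1 - (q : ℤ) ^ 2 + (q : ℤ) ^ 4) {w : ℕ} (hw : w.Prime) (hwN : w ∣ N) :
    ZE ↥(twistedE6 F q) r w := by
  obtain ⟨h2, h3, hw5⟩ := primes_12' hN hwN
  have hle : q ≤ q ^ 2 := by nlinarith [hq.two_le]
  have hM : ((N * (q ^ 2 - q + 1) : ℕ) : ℤ) = 1 - (q : ℤ) + (q : ℤ) ^ 3 - (q : ℤ) ^ 5 + (q : ℤ) ^ 6 := by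
    push_cast [Nat.cast_sub hle]; rw [hN]; ring
  have hco : q.Coprime (N * (q ^ 2 - q + 1)) :=
    UntwData.coprime_of_eq (a := -1 + (q : ℤ) ^ 2 - (q : ℤ) ^ 4 + (q : ℤ) ^ 5) (by rw [hM]; ring)
  obtain ⟨T, -, h1, h4, h5, -⟩ := TwT.flip_T hq hK DataTE6c.hA DataTE6c.chainOK DataTE6c.hd_pi DataTE6c.cycOK
    DataTE6c.rootOK DataTE6c.chain2OK DataTE6c.hd2_eq (N := N * (q ^ 2 - q + 1)) (by rw [DataTE6c.fN_eq, hM]) hco
  refine ZE.of h1 h4 hw (hwN.mul_right _) (not_dvd_gcd3 hw h3) hr.out (dvd_of_card_sq hK) hco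
    (h5 w hw (not_dvd_W_E6 hw h2 h3 hw5) fun s hs => ?_)
  rcases DataTE6c.dvd_of_G (cast_dvd hN hwN) s hs with h | h
  · exact not_one hw h
  · exact not_prime hw Nat.prime_two h2 h

theorem ze_tE6_8 (hq : IsPrimePow q) (hK : Fintype.card F = q ^ 2) {N : ℕ}
    (hN : (N : ℤ) = 1 + (q : ℤ) ^ 4) {w : ℕ} (hw : w.Prime) (hwN : w ∣ N) (hw2 : w ≠ 2) :
    ZE ↥(twistedE6 F q) r w := by
  obtain ⟨h3, hw5⟩ := primes_8 hN hwN
  have hle : 1 ≤ q ^ 2 := Nat.one_le_pow _ _ hq.pos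
  have hM : ((N * (q ^ 2 - 1) : ℕ) : ℤ) = -1 + (q : ℤ) ^ 2 - (q : ℤ) ^ 4 + (q : ℤ) ^ 6 := by
    push_cast [Nat.cast_sub hle]; rw [hN]; ring
  have hco : q.Coprime (N * (q ^ 2 - 1)) :=
    coprime_of_neg (a := (q : ℤ) - (q : ℤ) ^ 3 + (q : ℤ) ^ 5) (by rw [hM]; ring)
  obtain ⟨T, -, h1, h4, h5, -⟩ := TwT.flip_T hq hK DataTE6e.hA DataTE6e.chainOK DataTE6e.hd_pi DataTE6e.cycOK
    DataTE6e.rootOK DataTE6e.chain2OK DataTE6e.hd2_eq (N := N * (q ^ 2 - 1)) (by rw [DataTE6e.fN_eq, hM]) hco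
  refine ZE.of h1 h4 hw (hwN.mul_right _) (not_dvd_gcd3 hw h3) hr.out (dvd_of_card_sq hK) hco
    (h5 w hw (not_dvd_W_E6 hw hw2 h3 hw5) fun s hs => ?_)
  rcases DataTE6e.dvd_of_G (cast_dvd hN hwN) s hs with h | h
  · exact not_one hw h
  · exact not_prime hw Nat.prime_two hw2 h

end Cfsg.Agent.H941.SY
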